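import Mathlib
import Cfsg.Agent.Lib.helper15.St2
import Cfsg.Agent.Lib.helper3.STC.Defs
import Cfsg.Agent.Lib.helper3.STC.Defs2

/-!
# STU: abstract Steinberg systems of unitary type (`²A_{n-1}`, relative type `C_m` / `BC_m`): definitions

Project PSU (S2291), designer helper27.  PORT of helper3's type `C` library `Cfsg.Agent.Lib.helper3.STC` (itself a port of helper7's type `A` library), with an involution
`star` on the field `F` (`[StarRing F]`; in the application `star x = x ^ q`) and BOTH parities at once: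

* hermitian space `V = H^m ⊕ V₀`, hyperbolic pairs `e_a, e_{-a}` (`a : ι ⊕ ι` signed indices, `ng = Sum.swap` as in STC, `B(e_a, e_{-a}) = 1`), `V₀ = 0` (`od` false, `n = 2m`)
  or `V₀ = F d`, `B(d, d) = 1` (`od` true, `n = 2m+1`);
* short root elements `xs a b t = 1 + t E_{a,b} - star t E_{-b,-a}` (`b ≠ ±a`, `t : F`);
* long / half root elements `xl a ξ = 1 + v E_{a,0} - star v E_{0,-a} + c E_{a,-a}`, `ξ = (v, c) : Lam F od`, `c + star c + v * star v = 0` (`v = 0` if `od` is false);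
  `Lam F od` is a group (Heisenberg group of order `q³` if `od`, the additive group of the skew elements otherwise).
All identities below were checked numerically in `SU₄(q)`, `SU₅(q)`, `SU₆(q)`, `SU₇(q)`, `q = 2, 3, 4, 5`.
-/

set_option autoImplicit false

namespace Cfsg.Agent.Lib.Helper27.STU

open Cfsg.Agent.Lib.helper15.St2 Cfsg.Agent.Lib.helper3.STC

/-! ## The form parameter group -/

/-- pairs `(v, c)` with `c + star c + v * star v = 0`, and `v = 0` in the even case -/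
@[ext] structure Lam (F : Type*) [Field F] [StarRing F] (od : Prop) where
  v : F
  c : F
  h : c + star c + v * star v = 0
  hv : ¬ od → v = 0

namespace Lam

variable {F : Type*} [Field F] [StarRing F] {od : Prop}

instance : One (Lam F od) := ⟨⟨0, 0, by simp, fun _ => rfl⟩⟩

instance : Mul (Lam F od) :=
  ⟨fun ξ η => ⟨ξ.v + η.v, ξ.c + η.c - ξ.v * star η.v, by
    have h1 := ξ.h
    have h2 := η.h
    simp only [star_add, star_sub, star_mul', star_star]
    linear_combination h1 + h2, fun h => by rw [ξ.hv h, η.hv h, add_zero]⟩⟩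

instance : Inv (Lam F od) :=
  ⟨fun ξ => ⟨-ξ.v, star ξ.c, by
    have h1 := ξ.h
    simp only [star_neg, star_star]
    linear_combination h1, fun h => by rw [ξ.hv h, neg_zero]⟩⟩

@[simp] theorem one_v : (1 : Lam F od).v = 0 := rfl
@[simp] theorem one_c : (1 : Lam F od).c = 0 := rfl
@[simp] theorem mul_v (ξ η : Lam F od) : (ξ * η).v = ξ.v + η.v := rfl
@[simp] theorem mul_c (ξ η : Lam F od) : (ξ * η).c = ξ.c + η.c - ξ.v * star η.v := rfl
@[simp] theorem inv_v (ξ : Lam F od) : (ξ⁻¹).v = -ξ.v := rfl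
@[simp] theorem inv_c (ξ : Lam F od) : (ξ⁻¹).c = star ξ.c := rfl

instance : Group (Lam F od) where
  mul_assoc a b c := by
    ext
    · simp only [mul_v]; ring
    · simp only [mul_c, mul_v, star_add]; ring
  one_mul a := by
    ext
    · simp
    · simp
  mul_one a := by
    ext
    · simp
    · simp
  inv_mul_cancel a := by
    ext
    · simp
    · have h1 := a.h
      simp only [mul_c, inv_c, inv_v, one_c]
      linear_combination h1

/-- the action of the scalars: `(v, c) ↦ (t v, t (star t) c)` -/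
def act (t : F) (ξ : Lam F od) : Lam F od :=
  ⟨t * ξ.v, t * star t * ξ.c, by
    have h1 := ξ.h
    simp only [star_mul', star_star]
    linear_combination (t * star t) * h1, fun h => by rw [ξ.hv h, mul_zero]⟩

/-- `(v, c) ↦ (v, star c)` -/
def bar (ξ : Lam F od) : Lam F od :=
  ⟨ξ.v, star ξ.c, by
    have h1 := ξ.h
    simp only [star_star]
    linear_combination h1, ξ.hv⟩

/-- the trace map `t ↦ (0, t - star t)` -/
def tr (t : F) : Lam F od :=
  ⟨0, t - star t, by simp, fun _ => rfl⟩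

/-- the middle parameter of the Weyl element: `(v, c) ↦ (-v / c, (star c)⁻¹)` -/
def mu (ξ : Lam F od) : Lam F od :=
  ⟨-ξ.v / ξ.c, (star ξ.c)⁻¹, by
    have h1 := ξ.h
    by_cases hc : ξ.c = 0
    · simp [hc]
    · have hc' : star ξ.c ≠ 0 := fun h => hc (by simpa using congrArg star h)
      simp only [star_inv₀, star_star, star_div₀, star_neg]
      field_simp
      linear_combination h1, fun h => by rw [ξ.hv h, neg_zero, zero_div]⟩

/-- the last parameter of the Weyl element: `(v, c) ↦ (v * star c / c, c)` -/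
def nu (ξ : Lam F od) : Lam F od :=
  ⟨ξ.v * star ξ.c / ξ.c, ξ.c, by
    have h1 := ξ.h
    by_cases hc : ξ.c = 0
    · have hv : ξ.v * star ξ.v = 0 := by rw [hc] at h1; simpa using h1
      simp [hc]
    · have hc' : star ξ.c ≠ 0 := fun h => hc (by simpa using congrArg star h)
      simp only [star_div₀, star_mul', star_star]
      field_simp
      linear_combination h1, fun h => by rw [ξ.hv h, zero_mul, zero_div]⟩

@[simp] theorem act_v (t : F) (ξ : Lam F od) : (act t ξ).v = t * ξ.v := rfl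
@[simp] theorem act_c (t : F) (ξ : Lam F od) : (act t ξ).c = t * star t * ξ.c := rfl
@[simp] theorem bar_v (ξ : Lam F od) : (bar ξ).v = ξ.v := rfl
@[simp] theorem bar_c (ξ : Lam F od) : (bar ξ).c = star ξ.c := rfl
@[simp] theorem tr_v (t : F) : (tr t : Lam F od).v = 0 := rfl
@[simp] theorem tr_c (t : F) : (tr t : Lam F od).c = t - star t := rfl
@[simp] theorem mu_v (ξ : Lam F od) : (mu ξ).v = -ξ.v / ξ.c := rfl
@[simp] theorem mu_c (ξ : Lam F od) : (mu ξ).c = (star ξ.c)⁻¹ := rfl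
@[simp] theorem nu_v (ξ : Lam F od) : (nu ξ).v = ξ.v * star ξ.c / ξ.c := rfl
@[simp] theorem nu_c (ξ : Lam F od) : (nu ξ).c = ξ.c := rfl

end Lam

/-- the hypotheses on the involution used by the abstract theory (they hold for `x ↦ x ^ q` on a field with `q²` elements) -/
structure Hyp (F : Type*) [Field F] [StarRing F] : Prop where
  norm_surj : ∀ x : F, star x = x → ∃ y : F, y * star y = x
  trace_surj : ∀ x : F, star x = x → ∃ y : F, y + star y = x
  ex_skew : ∃ c : F, c ≠ 0 ∧ star c = -c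

/-! ## The rank one model: `3 × 3` matrices in the basis `e_a, d, e_{-a}` -/

section model

variable {F : Type*} [Field F] [StarRing F] {od : Prop}

/-- the matrix of `xl a ξ` on `e_a, d, e_{-a}` -/
def XpM (ξ : Lam F od) : Matrix (Fin 3) (Fin 3) F := !![1, ξ.v, ξ.c; 0, 1, -star ξ.v; 0, 0, 1]

/-- the matrix of `xl (ng a) ξ` on `e_a, d, e_{-a}` -/
def XmM (ξ : Lam F od) : Matrix (Fin 3) (Fin 3) F := !![1, 0, 0; -star ξ.v, 1, 0; ξ.c, ξ.v, 1]

theorem det_XpM (ξ : Lam F od) : (XpM ξ).det = 1 := by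
  simp [XpM, Matrix.det_fin_three]

theorem det_XmM (ξ : Lam F od) : (XmM ξ).det = 1 := by
  simp [XmM, Matrix.det_fin_three]

/-- `XpM ξ` in `SL₃(F)` -/
def XpS (ξ : Lam F od) : Matrix.SpecialLinearGroup (Fin 3) F := ⟨XpM ξ, det_XpM ξ⟩

/-- `XmM ξ` in `SL₃(F)` -/
def XmS (ξ : Lam F od) : Matrix.SpecialLinearGroup (Fin 3) F := ⟨XmM ξ, det_XmM ξ⟩

variable (F od)

/-- the rank one group: the subgroup of `SL₃(F)` generated by the `XpS ξ`, `XmS ξ` (`≅ SU₃(q)` if `od`, `≅ SL₂(q)` otherwise) -/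
def SUm : Subgroup (Matrix.SpecialLinearGroup (Fin 3) F) :=
  Subgroup.closure (Set.range (XpS : Lam F od → _) ∪ Set.range (XmS : Lam F od → _))

variable {F od}

/-- `XpS ξ` as an element of the rank one group -/
def XpU (ξ : Lam F od) : ↥(SUm F od) := ⟨XpS ξ, Subgroup.subset_closure (Or.inl ⟨ξ, rfl⟩)⟩

/-- `XmS ξ` as an element of the rank one group -/
def XmU (ξ : Lam F od) : ↥(SUm F od) := ⟨XmS ξ, Subgroup.subset_closure (Or.inr ⟨ξ, rfl⟩)⟩

end model

/-! ## Abstract systems -/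

/-- An abstract Steinberg system of unitary type on the index type `ι` in the group `G`. -/
structure SysU (F : Type*) [Field F] [StarRing F] (od : Prop) (ι : Type*) (G : Type*) [Group G] where
  xs : ι ⊕ ι → ι ⊕ ι → F → G
  xl : ι ⊕ ι → Lam F od → G
  sym : ∀ a b, a ≠ b → a ≠ ng b → ∀ t, xs a b t = xs (ng b) (ng a) (-(star t))
  adds : ∀ a b, a ≠ b → a ≠ ng b → ∀ t u, xs a b t * xs a b u = xs a b (t + u)
  addl : ∀ a ξ η, xl a ξ * xl a η = xl a (ξ * η)
  comm_ss : ∀ a b c d, a ≠ b → a ≠ ng b → c ≠ d → c ≠ ng d → b ≠ c → a ≠ d → b ≠ ng d → a ≠ ng c → ∀ t u,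
    xs a b t * xs c d u = xs c d u * xs a b t
  comm_ls : ∀ a c d, c ≠ d → c ≠ ng d → c ≠ ng a → d ≠ a → ∀ ξ u, xl a ξ * xs c d u = xs c d u * xl a ξ
  comm3 : ∀ a b c, a ≠ b → a ≠ ng b → b ≠ c → b ≠ ng c → a ≠ c → a ≠ ng c → ∀ t u,
    xs a b t * xs b c u * (xs a b t)⁻¹ * (xs b c u)⁻¹ = xs a c (t * u)
  ssl : ∀ a b, a ≠ b → a ≠ ng b → ∀ t u,
    xs a b t * xs b (ng a) u * (xs a b t)⁻¹ * (xs b (ng a) u)⁻¹ = xl a (Lam.tr (t * u))
  ls : ∀ a b, a ≠ b → a ≠ ng b → ∀ ξ u,
    xl a ξ * xs (ng a) b u * (xl a ξ)⁻¹ * (xs (ng a) b u)⁻¹ =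
      xs a b (ξ.c * u) * xl (ng b) (Lam.act (star u) (Lam.bar ξ))
  hh : ∀ a b, a ≠ b → a ≠ ng b → ∀ ξ η,
    xl a ξ * xl b η * (xl a ξ)⁻¹ * (xl b η)⁻¹ = xs a (ng b) (-(ξ.v * star η.v))
  rel : ∀ a b, a ≠ b → a ≠ ng b → ∀ t u, t ≠ 0 →
    cj (xs a b t * xs b a (-t⁻¹) * xs a b t) (xs a b u) = xs b a (-(t⁻¹ ^ 2 * u))
  r1 : ∀ a, ∃ ρ : ↥(SUm F od) →* G, ∀ ξ, ρ (XpU ξ) = xl a ξ ∧ ρ (XmU ξ) = xl (ng a) ξ

namespace SysU

variable {F : Type*} [Field F] [StarRing F] {od : Prop} {ι : Type*} {G : Type*} [Group G] (S : SysU F od ι G)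

/-- The short Weyl element `ws a b t` (`b ≠ ± a`). -/
def ws (a b : ι ⊕ ι) (t : F) : G := S.xs a b t * S.xs b a (-t⁻¹) * S.xs a b t

/-- The short torus element `hs a b t`. -/
def hs (a b : ι ⊕ ι) (t : F) : G := S.ws a b t * S.ws a b (-1)

/-- The long Weyl element `wl a ξ` (`ξ.c ≠ 0`): `e_a ↦ (star c)⁻¹ e_{-a}`, `e_{-a} ↦ c e_a`, `d ↦ -(star c / c) d`. -/
def wl (a : ι ⊕ ι) (ξ : Lam F od) : G := S.xl a ξ * S.xl (ng a) (Lam.mu ξ) * S.xl a (Lam.nu ξ)

/-- The long torus element `hl a ξ η = wl a ξ * (wl a η)⁻¹`: `e_a ↦ (ξ.c / η.c) e_a`. -/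
def hl (a : ι ⊕ ι) (ξ η : Lam F od) : G := S.wl a ξ * (S.wl a η)⁻¹

/-- The rank one system attached to a short pair of signed indices. -/
def st (a b : ι ⊕ ι) (hab : a ≠ b) (hab' : a ≠ ng b) : St F G where
  X c t := if c then S.xs a b t else S.xs b a t
  add c t u := by
    have hba' : b ≠ ng a := fun h => hab' (by rw [h]; cases a <;> rfl)
    cases c
    · exact S.adds b a hab.symm hba' t u
    · exact S.adds a b hab hab' t u
  rel c t u ht := by
    have hba' : b ≠ ng a := fun h => hab' (by rw [h]; cases a <;> rfl)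
    cases c
    · exact S.rel b a hab.symm hba' t u ht
    · exact S.rel a b hab hab' t u ht

/-- the data of a unitary monomial matrix: permutation `π` of the signed indices commuting with `ng`, coefficients `d` (`g e_k = d k • e_{π k}`,
`d (ng k) * star (d k) = 1`) and `d0` (`g d = d0 • d`, `d0 * star d0 = 1`; `d0 = 1` if there is no `d`) -/
structure MonData (π : Equiv.Perm (ι ⊕ ι)) (d : ι ⊕ ι → F) (d0 : F) : Prop where
  pi_ng : ∀ k, π (ng k) = ng (π k)
  d_ng : ∀ k, d (ng k) * star (d k) = 1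
  d0_norm : d0 * star d0 = 1

/-- `g` acts monomially on the root elements: permutation `π` of the signed indices, coefficients `d` (`g e_k = d k • e_{π k}`) and `d0` (`g d = d0 • d`). -/
def IsMon (g : G) (π : Equiv.Perm (ι ⊕ ι)) (d : ι ⊕ ι → F) (d0 : F) : Prop :=
  MonData π d d0 ∧
    (∀ k l, k ≠ l → k ≠ ng l → ∀ t, cj g (S.xs k l t) = S.xs (π k) (π l) (d k * (d l)⁻¹ * t)) ∧
    ∀ k ξ, cj g (S.xl k ξ) = S.xl (π k) (Lam.act (d k * d0⁻¹) ξ)

/-- The subgroup generated by the root subgroups with `Q a b` (`Q a (ng a)` for the long / half root subgroup `xl a`). -/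
def XQ (Q : ι ⊕ ι → ι ⊕ ι → Prop) : Subgroup G :=
  Subgroup.closure ({g | ∃ a b t, a ≠ b ∧ a ≠ ng b ∧ Q a b ∧ g = S.xs a b t} ∪ {g | ∃ a ξ, Q a (ng a) ∧ g = S.xl a ξ})

variable (o : ι ⊕ ι)

/-- The lower unipotent radical: generated by the `xs a o` and `xl (ng o)`. -/
def Yg : Subgroup G := S.XQ (fun _ b => b = o)

/-- The subgroup fixing `e_o`: generated by the `xs a b` with `b ≠ o`, `a ≠ -o`, and the `xl a` with `a ≠ -o`. -/
def Pg : Subgroup G := S.XQ (fun a b => b ≠ o ∧ a ≠ ng o)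

/-- The upper unipotent radical: generated by the `xs o b` and `xl o`. -/
def Ag : Subgroup G := S.XQ (fun a _ => a = o)

/-- The Levi factor: generated by the root subgroups with indices outside `{o, -o}`. -/
def Lg : Subgroup G := S.XQ (fun a b => (a ≠ o ∧ a ≠ ng o) ∧ (b ≠ o ∧ b ≠ ng o))

/-- The torus part. -/
def Hg : Subgroup G :=
  Subgroup.closure ({g | ∃ b t, b ≠ o ∧ b ≠ ng o ∧ t ≠ 0 ∧ g = S.hs o b t} ∪ {g | ∃ ξ η : Lam F od, ξ.c ≠ 0 ∧ η.c ≠ 0 ∧ g = S.hl o ξ η})

/-- The parabolic subgroup (the stabiliser of the line of `e_o`). -/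
def Phat : Subgroup G := S.Pg o ⊔ S.Hg o

/-- A homomorphism to the isometries of a hermitian space, sending the root elements to the elementary unitary maps attached to a frame
`fr a` (`B (fr a) (fr (ng a)) = 1`), `dv` (`B dv dv = 1` if `od`). -/
structure Rep (S : SysU F od ι G) (V : Type*) [AddCommGroup V] [Module F V] where
  B : V → V → F
  B_add_left : ∀ x y z, B (x + y) z = B x z + B y z
  B_smul_left : ∀ (t : F) x z, B (t • x) z = t * B x z
  B_herm : ∀ x y, B y x = star (B x y)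
  fr : ι ⊕ ι → V
  dv : V
  gram1 : ∀ a, B (fr a) (fr (ng a)) = 1
  gram0 : ∀ a b, b ≠ ng a → B (fr a) (fr b) = 0
  gram_d : ∀ a, B dv (fr a) = 0
  gram_dd : od → B dv dv = 1
  φ : G →* (V ≃ₗ[F] V)
  iso : ∀ g x y, B (φ g x) (φ g y) = B x y
  hxs : ∀ a b, a ≠ b → a ≠ ng b → ∀ t x,
    φ (S.xs a b t) x = x + (t * B x (fr (ng b))) • fr a - (star t * B x (fr a)) • fr (ng b)
  hxl : ∀ a ξ x,
    φ (S.xl a ξ) x = x + (ξ.v * B x dv + ξ.c * B x (fr a)) • fr a - (star ξ.v * B x (fr a)) • dv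

end SysU

end Cfsg.Agent.Lib.Helper27.STU
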