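import Mathlib
import Cfsg.Agent.Lib.Helper27.STU.Defs

/-!
# STU: more definitions (Weyl data, torus coefficients, auxiliary subgroups, cells)

`sws`, `wpm` (permutations of the Weyl elements) are those of helper3's STC (`Cfsg.Agent.Lib.helper3.STC.sws`, `.wpm`).
-/

set_option autoImplicit false

namespace Cfsg.Agent.Lib.Helper27.STU

open Cfsg.Agent.Lib.helper15.St2 Cfsg.Agent.Lib.helper3.STC

section coeff

variable {F : Type*} [Field F] [StarRing F] {od : Prop} {ι : Type*} [DecidableEq ι]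

/-- coefficients of the short Weyl element `ws a b u` (`a ≠ b`, `a ≠ ng b`): `e_a ↦ -u⁻¹ e_b`, `e_b ↦ u e_a`, `e_{-b} ↦ (star u)⁻¹ e_{-a}`, `e_{-a} ↦ -star u e_{-b}` -/
def dws (a b : ι ⊕ ι) (u : F) : ι ⊕ ι → F := fun k =>
  if k = a then -u⁻¹ else if k = b then u else if k = ng b then (star u)⁻¹ else if k = ng a then -star u else 1

/-- coefficients of the long Weyl element `wl a ξ`: `e_a ↦ (star c)⁻¹ e_{-a}`, `e_{-a} ↦ c e_a` -/
def dwl (a : ι ⊕ ι) (ξ : Lam F od) : ι ⊕ ι → F := fun k =>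
  if k = a then (star ξ.c)⁻¹ else if k = ng a then ξ.c else 1

/-- the coefficient of `wl a ξ` on `d` -/
def d0l (ξ : Lam F od) : F := -(star ξ.c / ξ.c)

/-- coefficients of the short torus element `hs a b u` -/
def dhs (a b : ι ⊕ ι) (u : F) : ι ⊕ ι → F := fun k =>
  if k = a then u else if k = b then u⁻¹ else if k = ng a then (star u)⁻¹ else if k = ng b then star u else 1

/-- coefficients of the long torus element `hl a ξ η`, `r = ξ.c / η.c`: `e_a ↦ r e_a`, `e_{-a} ↦ (star r)⁻¹ e_{-a}` -/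
def dhl (a : ι ⊕ ι) (r : F) : ι ⊕ ι → F := fun k =>
  if k = a then r else if k = ng a then (star r)⁻¹ else 1

/-- the coefficient of `hl a ξ η` on `d`, `r = ξ.c / η.c` -/
def d0h (r : F) : F := star r / r

end coeff

namespace SysU

variable {F : Type*} [Field F] [StarRing F] {od : Prop} {ι : Type*} {G : Type*} [Group G] (S : SysU F od ι G)

/-- all the Weyl elements act monomially (the conclusion of block W, used as a hypothesis in the later blocks) -/
def HW [DecidableEq ι] : Prop :=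
  (∀ a b : ι ⊕ ι, a ≠ b → a ≠ ng b → ∀ u : F, u ≠ 0 → S.IsMon (S.ws a b u) (sws a b) (dws a b u) 1) ∧
    ∀ (a : ι ⊕ ι) (ξ : Lam F od), ξ.c ≠ 0 → S.IsMon (S.wl a ξ) (Equiv.swap a (ng a)) (dwl a ξ) (d0l ξ)

/-- all the torus elements act diagonally -/
def HH [DecidableEq ι] : Prop :=
  (∀ a b : ι ⊕ ι, a ≠ b → a ≠ ng b → ∀ u : F, u ≠ 0 → S.IsMon (S.hs a b u) 1 (dhs a b u) 1) ∧
    ∀ (a : ι ⊕ ι) (ξ η : Lam F od), ξ.c ≠ 0 → η.c ≠ 0 → S.IsMon (S.hl a ξ η) 1 (dhl a (ξ.c / η.c)) (d0h (ξ.c / η.c))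

/-- the fixed Weyl element attached to the pair `(o, k)`: `ws o k 1`, or `wl o ξ₀` if `k = ng o` (`ξ₀` a fixed element of `Lam F od` with `ξ₀.c ≠ 0`) -/
def w1 [DecidableEq ι] (ξ₀ : Lam F od) (o k : ι ⊕ ι) : G := if k = ng o then S.wl o ξ₀ else S.ws o k 1

/-- the part of `Yg o` without the root subgroup `xs j o` -/
def Yj (o j : ι ⊕ ι) : Subgroup G := S.XQ (fun a b => b = o ∧ a ≠ j)

/-- the part of `Yg o` without the root subgroups `xs o' o` and `xs (ng o') o` -/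
def Yjj (o o' : ι ⊕ ι) : Subgroup G := S.XQ (fun a b => b = o ∧ (a ≠ o' ∧ a ≠ ng o'))

/-- the long / half root subgroup `xl (ng o)` inside `Yg o` -/
def Zg (o : ι ⊕ ι) : Subgroup G := S.XQ (fun a b => b = o ∧ a = ng o)

/-- the part of `Yg o` without the root subgroups `xs a o`, `a ∈ T` -/
def YT (o : ι ⊕ ι) (T : Finset (ι ⊕ ι)) : Subgroup G := S.XQ (fun a b => b = o ∧ a ∉ T)

/-- `n` lies in the parabolic subgroup `Phat o` and normalises `Yg o` -/
def NP (o : ι ⊕ ι) (n : G) : Prop := n ∈ S.Phat o ∧ ∀ y ∈ S.Yg o, cj n y ∈ S.Yg o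

section cells
variable [DecidableEq ι] (ξ₀ : Lam F od) (o : ι ⊕ ι)

/-- The big cell. -/
def cell0 : Set G := {g | ∃ y ∈ S.Yg o, ∃ p ∈ S.Phat o, g = y * p}

/-- The cell attached to `k`. -/
def cell (k : ι ⊕ ι) : Set G := {g | ∃ y ∈ S.Yg o, ∃ p ∈ S.Phat o, g = S.w1 ξ₀ o k * y * p}

/-- Membership in the union of the cells. -/
def InD (g : G) : Prop := g ∈ S.cell0 o ∨ ∃ k, k ≠ o ∧ g ∈ S.cell ξ₀ o k

end cells

/-- The set of products `a * l * hs o b t` (`b ≠ ± o` a fixed auxiliary index; rank at least two). -/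
def ALT (o b : ι ⊕ ι) : Set G :=
  {g | ∃ a ∈ S.Ag o, ∃ l ∈ S.Lg o, ∃ t : F, t ≠ 0 ∧ g = a * l * S.hs o b t}

end SysU

end Cfsg.Agent.Lib.Helper27.STU
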