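import Mathlib
import Cfsg.Agent.Lib.Helper27.STU.Defs
import Cfsg.Agent.Lib.Helper27.STU.Defs2

/-!
# STU: definitions for part 4 of the skeleton (the matrix of an element of the rank one group; pull back of a representation)
-/

set_option autoImplicit false

namespace Cfsg.Agent.Lib.Helper27.STU

open Cfsg.Agent.Lib.helper15.St2 Cfsg.Agent.Lib.helper3.STC

section mat

variable {F : Type*} [Field F] [StarRing F] {od : Prop}

/-- the matrix of an element of the rank one group -/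
def SUm.mat (M : ↥(SUm F od)) : Matrix (Fin 3) (Fin 3) F :=
  ((M : Matrix.SpecialLinearGroup (Fin 3) F) : Matrix (Fin 3) (Fin 3) F)

@[simp] theorem SUm.mat_one : SUm.mat (1 : ↥(SUm F od)) = 1 := rfl

@[simp] theorem SUm.mat_mul (M N : ↥(SUm F od)) : SUm.mat (M * N) = SUm.mat M * SUm.mat N := rfl

@[simp] theorem SUm.mat_XpU (ξ : Lam F od) : SUm.mat (XpU ξ) = XpM ξ := rfl

@[simp] theorem SUm.mat_XmU (ξ : Lam F od) : SUm.mat (XmU ξ) = XmM ξ := rfl

theorem SUm.mat_injective : Function.Injective (SUm.mat : ↥(SUm F od) → Matrix (Fin 3) (Fin 3) F) := by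
  intro M N h
  exact Subtype.ext (Subtype.ext h)

end mat

namespace SysU

variable {F : Type*} [Field F] [StarRing F] {od : Prop} {ι : Type*} {G₀ : Type*} [Group G₀] {S₀ : SysU F od ι G₀}
  {V : Type*} [AddCommGroup V] [Module F V]

/-- the pull back of a representation along a homomorphism which maps root elements to root elements -/
def Rep.comap (R₀ : S₀.Rep V) {G : Type*} [Group G] (S : SysU F od ι G) (π : G →* G₀)
    (hs : ∀ a b, a ≠ b → a ≠ ng b → ∀ t, π (S.xs a b t) = S₀.xs a b t) (hl : ∀ a ξ, π (S.xl a ξ) = S₀.xl a ξ) : S.Rep V where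
  B := R₀.B
  B_add_left := R₀.B_add_left
  B_smul_left := R₀.B_smul_left
  B_herm := R₀.B_herm
  fr := R₀.fr
  dv := R₀.dv
  gram1 := R₀.gram1
  gram0 := R₀.gram0
  gram_d := R₀.gram_d
  gram_dd := R₀.gram_dd
  φ := R₀.φ.comp π
  iso g x y := R₀.iso (π g) x y
  hxs a b hab hab' t x := by
    show R₀.φ (π (S.xs a b t)) x = _
    rw [hs a b hab hab' t]
    exact R₀.hxs a b hab hab' t x
  hxl a ξ x := by
    show R₀.φ (π (S.xl a ξ)) x = _
    rw [hl a ξ]
    exact R₀.hxl a ξ x

theorem Rep.comap_phi (R₀ : S₀.Rep V) {G : Type*} [Group G] (S : SysU F od ι G) (π : G →* G₀)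
    (hs : ∀ a b, a ≠ b → a ≠ ng b → ∀ t, π (S.xs a b t) = S₀.xs a b t) (hl : ∀ a ξ, π (S.xl a ξ) = S₀.xl a ξ) (g : G) :
    (R₀.comap S π hs hl).φ g = R₀.φ (π g) := rfl

end SysU

end Cfsg.Agent.Lib.Helper27.STU
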