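import Mathlib
import Cfsg.Agent.Lib.Helper27.STU.Defs
import Cfsg.Agent.Lib.Helper28.UForm
import Cfsg.Agent.Lib.Helper28.UHerm
import Cfsg.Agent.S0779

/-!
# STU: the hypotheses on the field with involution, and the Frobenius involution `x ↦ x ^ q` of a field with `q²` elements
-/

set_option autoImplicit false

namespace Cfsg.Agent.Lib.Helper27.STU

/-- the involution `x ↦ x ^ q` of a field with `q²` elements, as a `StarRing` structure (use `letI := frobStar hF`) -/
@[reducible] def frobStar {F : Type*} [Field F] [Fintype F] {q : ℕ} (hF : Fintype.card F = q ^ 2) : StarRing F where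
  star x := x ^ q
  star_involutive x := by
    obtain ⟨φ, h1, h2⟩ := Cfsg.Agent.S0779.exists_frob hF
    show (x ^ q) ^ q = x
    rw [← h1, ← h1, h2]
  star_mul x y := by
    show (x * y) ^ q = y ^ q * x ^ q
    rw [mul_pow, mul_comm]
  star_add x y := by
    obtain ⟨φ, h1, _⟩ := Cfsg.Agent.S0779.exists_frob hF
    show (x + y) ^ q = x ^ q + y ^ q
    rw [← h1, ← h1, ← h1, map_add]

theorem frobStar_apply {F : Type*} [Field F] [Fintype F] {q : ℕ} (hF : Fintype.card F = q ^ 2) (x : F) :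
    letI := frobStar hF
    star x = x ^ q := rfl

theorem frobStar_hyp {F : Type*} [Field F] [Fintype F] {q : ℕ} (hF : Fintype.card F = q ^ 2) :
    letI := frobStar hF
    Hyp F := by
  letI := frobStar hF
  obtain ⟨σ, hσ, hf⟩ := Cfsg.Agent.Lib.Helper28.UHerm.herm_unitary hF 1
  have hs : ∀ x : F, star x = σ x := fun x => (hσ x).symm
  refine ⟨?_, ?_, ?_⟩
  · intro x hx
    obtain ⟨a, ha⟩ := Cfsg.Agent.Lib.Helper28.UForm.norm_surj hf x (by rw [← hs]; exact hx)
    exact ⟨a, by rw [hs]; exact ha⟩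
  · intro x hx
    obtain ⟨a, ha⟩ := Cfsg.Agent.Lib.Helper28.UForm.trace_surj hf x (by rw [← hs]; exact hx)
    exact ⟨a, by rw [hs]; exact ha⟩
  · obtain ⟨c, hc, hc'⟩ := Cfsg.Agent.Lib.Helper28.UForm.exists_K0 hf
    exact ⟨c, hc, by rw [hs]; exact hc'⟩

end Cfsg.Agent.Lib.Helper27.STU
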