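import Mathlib
import Cfsg.Agent.Lib.helper3.STC.Sub
import Cfsg.Agent.Lib.Helper24.STCI1
import Cfsg.Agent.Lib.Helper27.STU.Defs
import Cfsg.Agent.Lib.Helper27.STU.Defs2

/-!
# STU: the subsystem on the complement of an index (block K of the skeleton, definitions)

`S.sub i₀` is the Steinberg system of unitary type on `{i // i ≠ i₀}` inside the Levi factor `S.Lg (Sum.inl i₀)`; a representation restricts to it.
`sv`, `sv_ng`, `sv_ne`, `sv_ne_ng`, `sv_ne_inl`, `sv_ne_inr`, `exists_sv` are helper3's (`Cfsg.Agent.Lib.helper3.STC.Sub`).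
-/

set_option autoImplicit false

namespace Cfsg.Agent.Lib.Helper27.STU

open Cfsg.Agent.Lib.helper15.St2 Cfsg.Agent.Lib.helper3.STC

universe v w

namespace SysU

variable {F : Type*} [Field F] [StarRing F] {od : Prop} {ι : Type v} {G : Type w} [Group G] (S : SysU F od ι G)

theorem xs_mem_Lg_sv (i₀ : ι) {a b : {i // i ≠ i₀} ⊕ {i // i ≠ i₀}} (hab : a ≠ b) (hab' : a ≠ ng b) (t : F) :
    S.xs (sv i₀ a) (sv i₀ b) t ∈ S.Lg (Sum.inl i₀) :=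
  Subgroup.subset_closure (Or.inl ⟨sv i₀ a, sv i₀ b, t, sv_ne i₀ hab, sv_ne_ng i₀ hab',
    ⟨⟨sv_ne_inl i₀ a, sv_ne_inr i₀ a⟩, ⟨sv_ne_inl i₀ b, sv_ne_inr i₀ b⟩⟩, rfl⟩)

theorem xl_mem_Lg_sv (i₀ : ι) (a : {i // i ≠ i₀} ⊕ {i // i ≠ i₀}) (ξ : Lam F od) :
    S.xl (sv i₀ a) ξ ∈ S.Lg (Sum.inl i₀) :=
  Subgroup.subset_closure (Or.inr ⟨sv i₀ a, ξ,
    ⟨⟨sv_ne_inl i₀ a, sv_ne_inr i₀ a⟩, ⟨by rw [← sv_ng]; exact sv_ne_inl i₀ _, by rw [← sv_ng]; exact sv_ne_inr i₀ _⟩⟩, rfl⟩)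

/-- the generators of the rank one group generate it (as a group on its own) -/
theorem sub_SUm_closure_top (F : Type*) [Field F] [StarRing F] (od : Prop) :
    Subgroup.closure (Set.range (XpU : Lam F od → ↥(SUm F od)) ∪ Set.range (XmU : Lam F od → ↥(SUm F od))) = ⊤ := by
  have h : (Set.range (XpU : Lam F od → ↥(SUm F od)) ∪ Set.range (XmU : Lam F od → ↥(SUm F od))) =
      ((↑) : ↥(SUm F od) → Matrix.SpecialLinearGroup (Fin 3) F) ⁻¹'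
        (Set.range (XpS : Lam F od → _) ∪ Set.range (XmS : Lam F od → _)) := by
    ext ⟨g, hg⟩
    constructor
    · rintro (⟨ξ, h⟩ | ⟨ξ, h⟩)
      · exact Or.inl ⟨ξ, congrArg Subtype.val h⟩
      · exact Or.inr ⟨ξ, congrArg Subtype.val h⟩
    · rintro (⟨ξ, h⟩ | ⟨ξ, h⟩)
      · exact Or.inl ⟨ξ, Subtype.ext h⟩
      · exact Or.inr ⟨ξ, Subtype.ext h⟩
  rw [h]
  exact Subgroup.closure_closure_coe_preimage

/-- a homomorphism from the rank one group whose values on the generators lie in a subgroup takes all its values there -/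
theorem sub_r1_mem {H : Subgroup G} (ρ : ↥(SUm F od) →* G) (hp : ∀ ξ, ρ (XpU ξ) ∈ H) (hm : ∀ ξ, ρ (XmU ξ) ∈ H) (M : ↥(SUm F od)) :
    ρ M ∈ H := by
  have h1 : (⊤ : Subgroup ↥(SUm F od)) ≤ H.comap ρ := by
    rw [← sub_SUm_closure_top F od, Subgroup.closure_le]
    rintro _ (⟨ξ, rfl⟩ | ⟨ξ, rfl⟩)
    · exact hp ξ
    · exact hm ξ
  exact h1 (Subgroup.mem_top M)

open scoped Classical in
/-- The subsystem on the complement of the index `i₀`, inside the Levi factor. -/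
noncomputable def sub (i₀ : ι) : SysU F od {i // i ≠ i₀} (S.Lg (Sum.inl i₀)) where
  xs a b t := if h : a ≠ b ∧ a ≠ ng b then ⟨S.xs (sv i₀ a) (sv i₀ b) t, S.xs_mem_Lg_sv i₀ h.1 h.2 t⟩ else 1
  xl a ξ := ⟨S.xl (sv i₀ a) ξ, S.xl_mem_Lg_sv i₀ a ξ⟩
  sym a b hab hab' t := by
    have h2 : ng b ≠ ng a ∧ ng b ≠ ng (ng a) := by
      refine ⟨fun e => hab (Cfsg.Agent.Lib.helper3.STC.ng_inj.1 e).symm, fun e => hab' ?_⟩
      rw [Cfsg.Agent.Lib.helper3.STC.ng_ng] at e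
      rw [← e]
    rw [dif_pos ⟨hab, hab'⟩, dif_pos h2]
    apply Subtype.ext
    show S.xs (sv i₀ a) (sv i₀ b) t = S.xs (sv i₀ (ng b)) (sv i₀ (ng a)) (-(star t))
    rw [sv_ng, sv_ng]
    exact S.sym _ _ (sv_ne i₀ hab) (sv_ne_ng i₀ hab') t
  adds a b hab hab' t u := by
    rw [dif_pos ⟨hab, hab'⟩, dif_pos ⟨hab, hab'⟩, dif_pos ⟨hab, hab'⟩]
    exact Subtype.ext (S.adds _ _ (sv_ne i₀ hab) (sv_ne_ng i₀ hab') t u)
  addl a ξ η := Subtype.ext (S.addl _ ξ η)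
  comm_ss a b c d hab hab' hcd hcd' hbc had hbd hac t u := by
    rw [dif_pos ⟨hab, hab'⟩, dif_pos ⟨hcd, hcd'⟩]
    exact Subtype.ext (S.comm_ss _ _ _ _ (sv_ne i₀ hab) (sv_ne_ng i₀ hab') (sv_ne i₀ hcd) (sv_ne_ng i₀ hcd')
      (sv_ne i₀ hbc) (sv_ne i₀ had) (sv_ne_ng i₀ hbd) (sv_ne_ng i₀ hac) t u)
  comm_ls a c d hcd hcd' hca hda ξ u := by
    rw [dif_pos ⟨hcd, hcd'⟩]
    exact Subtype.ext (S.comm_ls _ _ _ (sv_ne i₀ hcd) (sv_ne_ng i₀ hcd') (sv_ne_ng i₀ hca) (sv_ne i₀ hda) ξ u)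
  comm3 a b c hab hab' hbc hbc' hac hac' t u := by
    rw [dif_pos ⟨hab, hab'⟩, dif_pos ⟨hbc, hbc'⟩, dif_pos ⟨hac, hac'⟩]
    exact Subtype.ext (S.comm3 _ _ _ (sv_ne i₀ hab) (sv_ne_ng i₀ hab') (sv_ne i₀ hbc) (sv_ne_ng i₀ hbc') (sv_ne i₀ hac)
      (sv_ne_ng i₀ hac') t u)
  ssl a b hab hab' t u := by
    have h2 : b ≠ ng a ∧ b ≠ ng (ng a) := by
      refine ⟨fun e => hab' ?_, fun e => hab ?_⟩
      · rw [e, Cfsg.Agent.Lib.helper3.STC.ng_ng]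
      · rw [Cfsg.Agent.Lib.helper3.STC.ng_ng] at e
        exact e.symm
    rw [dif_pos ⟨hab, hab'⟩, dif_pos h2]
    apply Subtype.ext
    show S.xs (sv i₀ a) (sv i₀ b) t * S.xs (sv i₀ b) (sv i₀ (ng a)) u * (S.xs (sv i₀ a) (sv i₀ b) t)⁻¹ *
      (S.xs (sv i₀ b) (sv i₀ (ng a)) u)⁻¹ = S.xl (sv i₀ a) (Lam.tr (t * u))
    rw [sv_ng]
    exact S.ssl _ _ (sv_ne i₀ hab) (sv_ne_ng i₀ hab') t u
  ls a b hab hab' ξ u := by
    have h2 : ng a ≠ b ∧ ng a ≠ ng b := by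
      refine ⟨fun e => hab' ?_, fun e => hab (Cfsg.Agent.Lib.helper3.STC.ng_inj.1 e)⟩
      rw [← e, Cfsg.Agent.Lib.helper3.STC.ng_ng]
    rw [dif_pos h2, dif_pos ⟨hab, hab'⟩]
    apply Subtype.ext
    show S.xl (sv i₀ a) ξ * S.xs (sv i₀ (ng a)) (sv i₀ b) u * (S.xl (sv i₀ a) ξ)⁻¹ * (S.xs (sv i₀ (ng a)) (sv i₀ b) u)⁻¹ =
      S.xs (sv i₀ a) (sv i₀ b) (ξ.c * u) * S.xl (sv i₀ (ng b)) (Lam.act (star u) (Lam.bar ξ))
    rw [sv_ng, sv_ng]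
    exact S.ls _ _ (sv_ne i₀ hab) (sv_ne_ng i₀ hab') ξ u
  hh a b hab hab' ξ η := by
    have h2 : a ≠ ng b ∧ a ≠ ng (ng b) := by
      refine ⟨hab', fun e => hab ?_⟩
      rw [Cfsg.Agent.Lib.helper3.STC.ng_ng] at e
      exact e
    rw [dif_pos h2]
    apply Subtype.ext
    show S.xl (sv i₀ a) ξ * S.xl (sv i₀ b) η * (S.xl (sv i₀ a) ξ)⁻¹ * (S.xl (sv i₀ b) η)⁻¹ =
      S.xs (sv i₀ a) (sv i₀ (ng b)) (-(ξ.v * star η.v))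
    rw [sv_ng]
    exact S.hh _ _ (sv_ne i₀ hab) (sv_ne_ng i₀ hab') ξ η
  rel a b hab hab' t u ht := by
    have h2 : b ≠ a ∧ b ≠ ng a := by
      refine ⟨hab.symm, fun e => hab' ?_⟩
      rw [e, Cfsg.Agent.Lib.helper3.STC.ng_ng]
    have h1 : a ≠ b ∧ a ≠ ng b := ⟨hab, hab'⟩
    simp only [dif_pos h1, dif_pos h2]
    apply Subtype.ext
    show cj (S.xs (sv i₀ a) (sv i₀ b) t * S.xs (sv i₀ b) (sv i₀ a) (-t⁻¹) * S.xs (sv i₀ a) (sv i₀ b) t)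
      (S.xs (sv i₀ a) (sv i₀ b) u) = S.xs (sv i₀ b) (sv i₀ a) (-(t⁻¹ ^ 2 * u))
    exact S.rel _ _ (sv_ne i₀ hab) (sv_ne_ng i₀ hab') t u ht
  r1 a := by
    obtain ⟨ρ, hρ⟩ := S.r1 (sv i₀ a)
    have hmem : ∀ M, ρ M ∈ S.Lg (Sum.inl i₀) := by
      apply sub_r1_mem ρ
      · intro ξ
        rw [(hρ ξ).1]
        exact S.xl_mem_Lg_sv i₀ a ξ
      · intro ξ
        rw [(hρ ξ).2, ← sv_ng]
        exact S.xl_mem_Lg_sv i₀ (ng a) ξ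
    refine ⟨ρ.codRestrict (S.Lg (Sum.inl i₀)) hmem, fun ξ => ⟨?_, ?_⟩⟩
    · apply Subtype.ext
      show ρ (XpU ξ) = S.xl (sv i₀ a) ξ
      exact (hρ ξ).1
    · apply Subtype.ext
      show ρ (XmU ξ) = S.xl (sv i₀ (ng a)) ξ
      rw [sv_ng]
      exact (hρ ξ).2

open scoped Classical in
theorem sub_xs_coe (i₀ : ι) {a b : {i // i ≠ i₀} ⊕ {i // i ≠ i₀}} (hab : a ≠ b) (hab' : a ≠ ng b) (t : F) :
    (((S.sub i₀).xs a b t : S.Lg (Sum.inl i₀)) : G) = S.xs (sv i₀ a) (sv i₀ b) t := by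
  have h : (S.sub i₀).xs a b t = (⟨S.xs (sv i₀ a) (sv i₀ b) t, S.xs_mem_Lg_sv i₀ hab hab' t⟩ : S.Lg (Sum.inl i₀)) := by
    show (if h : a ≠ b ∧ a ≠ ng b then (⟨S.xs (sv i₀ a) (sv i₀ b) t, S.xs_mem_Lg_sv i₀ h.1 h.2 t⟩ : S.Lg (Sum.inl i₀)) else 1) = _
    rw [dif_pos ⟨hab, hab'⟩]
  rw [h]

theorem sub_xl_coe (i₀ : ι) (a : {i // i ≠ i₀} ⊕ {i // i ≠ i₀}) (ξ : Lam F od) :
    (((S.sub i₀).xl a ξ : S.Lg (Sum.inl i₀)) : G) = S.xl (sv i₀ a) ξ := rfl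

/-- the subsystem generates the Levi factor -/
theorem sub_gen (i₀ : ι) : (S.sub i₀).XQ (fun _ _ => True) = ⊤ := by
  have h : ({g : S.Lg (Sum.inl i₀) | ∃ (a b : {i // i ≠ i₀} ⊕ {i // i ≠ i₀}) (t : F),
        a ≠ b ∧ a ≠ ng b ∧ True ∧ g = (S.sub i₀).xs a b t} ∪
      {g : S.Lg (Sum.inl i₀) | ∃ (a : {i // i ≠ i₀} ⊕ {i // i ≠ i₀}) (ξ : Lam F od), True ∧ g = (S.sub i₀).xl a ξ}) =
      ((↑) : S.Lg (Sum.inl i₀) → G) ⁻¹' ({g | ∃ a b t, a ≠ b ∧ a ≠ ng b ∧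
        ((a ≠ Sum.inl i₀ ∧ a ≠ ng (Sum.inl i₀)) ∧ (b ≠ Sum.inl i₀ ∧ b ≠ ng (Sum.inl i₀))) ∧
          g = S.xs a b t} ∪ {g | ∃ a ξ, ((a ≠ Sum.inl i₀ ∧ a ≠ ng (Sum.inl i₀)) ∧
            (ng a ≠ Sum.inl i₀ ∧ ng a ≠ ng (Sum.inl i₀))) ∧ g = S.xl a ξ}) := by
    ext ⟨g, hg⟩
    constructor
    · rintro (⟨a, b, t, hab, hab', -, h⟩ | ⟨a, ξ, -, h⟩)
      · refine Or.inl ⟨sv i₀ a, sv i₀ b, t, sv_ne i₀ hab, sv_ne_ng i₀ hab',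
          ⟨⟨sv_ne_inl i₀ a, sv_ne_inr i₀ a⟩, ⟨sv_ne_inl i₀ b, sv_ne_inr i₀ b⟩⟩, ?_⟩
        rw [← S.sub_xs_coe i₀ hab hab' t]
        exact congrArg Subtype.val h
      · refine Or.inr ⟨sv i₀ a, ξ, ⟨⟨sv_ne_inl i₀ a, sv_ne_inr i₀ a⟩,
          ⟨by rw [← sv_ng]; exact sv_ne_inl i₀ _, by rw [← sv_ng]; exact sv_ne_inr i₀ _⟩⟩, ?_⟩
        exact congrArg Subtype.val h
    · rintro (⟨a, b, t, hab, hab', ⟨⟨ha, ha'⟩, ⟨hb, hb'⟩⟩, h⟩ | ⟨a, ξ, ⟨⟨ha, ha'⟩, -⟩, h⟩)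
      · obtain ⟨a', rfl⟩ := exists_sv i₀ ha ha'
        obtain ⟨b', rfl⟩ := exists_sv i₀ hb hb'
        have h1 : a' ≠ b' := fun e => hab (by rw [e])
        have h2 : a' ≠ ng b' := fun e => hab' (by rw [e, sv_ng])
        refine Or.inl ⟨a', b', t, h1, h2, trivial, Subtype.ext ?_⟩
        rw [S.sub_xs_coe i₀ h1 h2 t]
        exact h
      · obtain ⟨a', rfl⟩ := exists_sv i₀ ha ha'
        exact Or.inr ⟨a', ξ, trivial, Subtype.ext h⟩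
  unfold XQ
  rw [h]
  exact Subgroup.closure_closure_coe_preimage

/-- over an empty index type there are no root elements -/
theorem XQ_eq_bot_of_isEmpty [IsEmpty ι] (Q : ι ⊕ ι → ι ⊕ ι → Prop) : S.XQ Q = ⊥ := by
  rw [eq_bot_iff]
  unfold XQ
  rw [Subgroup.closure_le]
  rintro _ (⟨a, -⟩ | ⟨a, -⟩)
  · exact (isEmptyElim (α := ι ⊕ ι) a)
  · exact (isEmptyElim (α := ι ⊕ ι) a)

namespace Rep

variable {S} {V : Type*} [AddCommGroup V] [Module F V] (R : S.Rep V)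

/-- The restriction of a representation to the subsystem. -/
noncomputable def sub (i₀ : ι) : (S.sub i₀).Rep V where
  B := R.B
  B_add_left := R.B_add_left
  B_smul_left := R.B_smul_left
  B_herm := R.B_herm
  fr a := R.fr (sv i₀ a)
  dv := R.dv
  gram1 a := by
    show R.B (R.fr (sv i₀ a)) (R.fr (sv i₀ (ng a))) = 1
    rw [sv_ng]
    exact R.gram1 _
  gram0 a b hab := R.gram0 _ _ (sv_ne_ng i₀ hab)
  gram_d a := R.gram_d _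
  gram_dd := R.gram_dd
  φ := R.φ.comp (S.Lg (Sum.inl i₀)).subtype
  iso g x y := R.iso _ x y
  hxs a b hab hab' t x := by
    show R.φ (((S.sub i₀).xs a b t : S.Lg (Sum.inl i₀)) : G) x = _
    rw [SysU.sub_xs_coe S i₀ hab hab' t, R.hxs _ _ (sv_ne i₀ hab) (sv_ne_ng i₀ hab') t x, sv_ng]
  hxl a ξ x := by
    show R.φ (S.xl (sv i₀ a) ξ) x = _
    rw [R.hxl]

theorem sub_phi (i₀ : ι) (x : S.Lg (Sum.inl i₀)) : (R.sub i₀).φ x = R.φ (x : G) := rfl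

end Rep

end SysU

end Cfsg.Agent.Lib.Helper27.STU
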